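import Mathlib

/-!
# Mapping cylinders of linear maps (helper70)

For a ring `𝔸`, an element `x`, and a linear map `Φ : 𝕄 → ℕ`, the cylinder is the cokernel of
`y ↦ (x y, -Φ y) : 𝕄 → 𝕄 × ℕ`.  Over `κ[X]` with `x = X` and `Φ` the base change of a map of
`κ`-vector spaces, the cylinder is flat iff the map is injective; the construction commutes with
base change.
-/

set_option autoImplicit false
set_option linter.style.haveILetI false

open TensorProduct Polynomial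

namespace Groth.Agent.H70.FibExact

section defs

variable {𝔸 : Type*} [CommRing 𝔸] {𝕄 ℕ' 𝕋 : Type*} [AddCommGroup 𝕄] [AddCommGroup ℕ']
  [AddCommGroup 𝕋] [Module 𝔸 𝕄] [Module 𝔸 ℕ'] [Module 𝔸 𝕋]

/-- `𝕋` with the maps `π₁`, `π₂` is a mapping cylinder of `Φ` with respect to `x`. -/
structure IsCyl (x : 𝔸) (Φ : 𝕄 →ₗ[𝔸] ℕ') (π₁ : 𝕄 →ₗ[𝔸] 𝕋) (π₂ : ℕ' →ₗ[𝔸] 𝕋) : Prop where
  surj : ∀ t, ∃ m n, π₁ m + π₂ n = t
  ker : ∀ m n, π₁ m + π₂ n = 0 ↔ ∃ y, m = x • y ∧ n = - Φ y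

/-- the map `y ↦ (x y, -Φ y)` -/
def cylMap (x : 𝔸) (Φ : 𝕄 →ₗ[𝔸] ℕ') : 𝕄 →ₗ[𝔸] 𝕄 × ℕ' :=
  LinearMap.prod (x • LinearMap.id) (-Φ)

@[simp] theorem cylMap_apply (x : 𝔸) (Φ : 𝕄 →ₗ[𝔸] ℕ') (y : 𝕄) :
    cylMap x Φ y = (x • y, - Φ y) := rfl

/-- the standard cylinder -/
abbrev Cyl (x : 𝔸) (Φ : 𝕄 →ₗ[𝔸] ℕ') : Type _ := (𝕄 × ℕ') ⧸ LinearMap.range (cylMap x Φ)

theorem isCyl_mk (x : 𝔸) (Φ : 𝕄 →ₗ[𝔸] ℕ') :
    IsCyl x Φ ((LinearMap.range (cylMap x Φ)).mkQ ∘ₗ LinearMap.inl 𝔸 𝕄 ℕ')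
      ((LinearMap.range (cylMap x Φ)).mkQ ∘ₗ LinearMap.inr 𝔸 𝕄 ℕ') := by
  have hsum : ∀ m n, ((LinearMap.range (cylMap x Φ)).mkQ ∘ₗ LinearMap.inl 𝔸 𝕄 ℕ') m +
      ((LinearMap.range (cylMap x Φ)).mkQ ∘ₗ LinearMap.inr 𝔸 𝕄 ℕ') n =
      (LinearMap.range (cylMap x Φ)).mkQ (m, n) := by
    intro m n
    simp only [LinearMap.comp_apply, LinearMap.inl_apply, LinearMap.inr_apply, ← map_add,
      Prod.mk_add_mk, add_zero, zero_add]
  constructor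
  · intro t
    obtain ⟨⟨m, n⟩, rfl⟩ := Submodule.mkQ_surjective _ t
    exact ⟨m, n, hsum m n⟩
  · intro m n
    rw [hsum, Submodule.mkQ_apply, Submodule.Quotient.mk_eq_zero, LinearMap.mem_range]
    constructor
    · rintro ⟨y, hy⟩
      rw [cylMap_apply, Prod.mk.injEq] at hy
      exact ⟨y, hy.1.symm, hy.2.symm⟩
    · rintro ⟨y, rfl, rfl⟩
      exact ⟨y, rfl⟩

/-- the exact sequence form -/
theorem IsCyl.exact {x : 𝔸} {Φ : 𝕄 →ₗ[𝔸] ℕ'} {π₁ : 𝕄 →ₗ[𝔸] 𝕋} {π₂ : ℕ' →ₗ[𝔸] 𝕋}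
    (h : IsCyl x Φ π₁ π₂) :
    Function.Exact (cylMap x Φ) (π₁.coprod π₂) ∧ Function.Surjective (π₁.coprod π₂) := by
  constructor
  · rintro ⟨m, n⟩
    rw [LinearMap.coprod_apply, h.ker m n, Set.mem_range]
    constructor
    · rintro ⟨y, rfl, rfl⟩
      exact ⟨y, rfl⟩
    · rintro ⟨y, hy⟩
      rw [cylMap_apply, Prod.mk.injEq] at hy
      exact ⟨y, hy.1.symm, hy.2.symm⟩
  · intro t
    obtain ⟨m, n, rfl⟩ := h.surj t
    exact ⟨(m, n), rfl⟩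

theorem IsCyl.of_exact {x : 𝔸} {Φ : 𝕄 →ₗ[𝔸] ℕ'} {π₁ : 𝕄 →ₗ[𝔸] 𝕋} {π₂ : ℕ' →ₗ[𝔸] 𝕋}
    (hex : Function.Exact (cylMap x Φ) (π₁.coprod π₂))
    (hs : Function.Surjective (π₁.coprod π₂)) : IsCyl x Φ π₁ π₂ := by
  constructor
  · intro t
    obtain ⟨⟨m, n⟩, rfl⟩ := hs t
    exact ⟨m, n, rfl⟩
  · intro m n
    have := hex (m, n)
    rw [LinearMap.coprod_apply] at this
    rw [this, Set.mem_range]
    constructor
    · rintro ⟨y, hy⟩
      rw [cylMap_apply, Prod.mk.injEq] at hy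
      exact ⟨y, hy.1.symm, hy.2.symm⟩
    · rintro ⟨y, rfl, rfl⟩
      exact ⟨y, rfl⟩

end defs


section transport

variable {𝔸 : Type*} [CommRing 𝔸] {𝕄 ℕ' 𝕋 : Type*} [AddCommGroup 𝕄] [AddCommGroup ℕ']
  [AddCommGroup 𝕋] [Module 𝔸 𝕄] [Module 𝔸 ℕ'] [Module 𝔸 𝕋]
  {x : 𝔸} {Φ : 𝕄 →ₗ[𝔸] ℕ'} {π₁ : 𝕄 →ₗ[𝔸] 𝕋} {π₂ : ℕ' →ₗ[𝔸] 𝕋}

/-- transport of a cylinder along isomorphisms of the source and target of `Φ` -/
theorem IsCyl.congr {𝕄₂ ℕ₂ : Type*} [AddCommGroup 𝕄₂] [AddCommGroup ℕ₂] [Module 𝔸 𝕄₂]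
    [Module 𝔸 ℕ₂] (h : IsCyl x Φ π₁ π₂) (α : 𝕄₂ ≃ₗ[𝔸] 𝕄) (β : ℕ₂ ≃ₗ[𝔸] ℕ')
    (Φ₂ : 𝕄₂ →ₗ[𝔸] ℕ₂) (hΦ : ∀ y, Φ (α y) = β (Φ₂ y)) :
    IsCyl x Φ₂ (π₁ ∘ₗ α.toLinearMap) (π₂ ∘ₗ β.toLinearMap) := by
  constructor
  · intro t
    obtain ⟨m, n, rfl⟩ := h.surj t
    exact ⟨α.symm m, β.symm n, by simp⟩
  · intro m n
    simp only [LinearMap.comp_apply, LinearEquiv.coe_coe]
    rw [h.ker]
    constructor
    · rintro ⟨y, hy1, hy2⟩
      refine ⟨α.symm y, ?_, ?_⟩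
      · apply α.injective
        rw [hy1, map_smul, LinearEquiv.apply_symm_apply]
      · apply β.injective
        rw [hy2, map_neg, ← hΦ, LinearEquiv.apply_symm_apply]
    · rintro ⟨y, rfl, rfl⟩
      exact ⟨α y, by rw [map_smul], by rw [map_neg, hΦ]⟩

/-- transport of a cylinder along an isomorphism of the cylinder -/
theorem IsCyl.congr_right {𝕋₂ : Type*} [AddCommGroup 𝕋₂] [Module 𝔸 𝕋₂]
    (h : IsCyl x Φ π₁ π₂) (e : 𝕋 ≃ₗ[𝔸] 𝕋₂) :
    IsCyl x Φ (e.toLinearMap ∘ₗ π₁) (e.toLinearMap ∘ₗ π₂) := by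
  constructor
  · intro t
    obtain ⟨m, n, hmn⟩ := h.surj (e.symm t)
    refine ⟨m, n, ?_⟩
    simp only [LinearMap.comp_apply, LinearEquiv.coe_coe]
    rw [← map_add, hmn, LinearEquiv.apply_symm_apply]
  · intro m n
    simp only [LinearMap.comp_apply, LinearEquiv.coe_coe]
    rw [← map_add, LinearEquiv.map_eq_zero_iff, h.ker]

end transport

section restrict

variable {𝔸 𝔹 : Type*} [CommRing 𝔸] [CommRing 𝔹] [Algebra 𝔸 𝔹]
  {𝕄 ℕ' 𝕋 : Type*} [AddCommGroup 𝕄] [AddCommGroup ℕ'] [AddCommGroup 𝕋]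
  [Module 𝔹 𝕄] [Module 𝔹 ℕ'] [Module 𝔹 𝕋] [Module 𝔸 𝕄] [Module 𝔸 ℕ'] [Module 𝔸 𝕋]
  [IsScalarTower 𝔸 𝔹 𝕄] [IsScalarTower 𝔸 𝔹 ℕ'] [IsScalarTower 𝔸 𝔹 𝕋]

theorem IsCyl.restrictScalars {x : 𝔸} {Φ : 𝕄 →ₗ[𝔹] ℕ'} {π₁ : 𝕄 →ₗ[𝔹] 𝕋} {π₂ : ℕ' →ₗ[𝔹] 𝕋}
    (h : IsCyl (algebraMap 𝔸 𝔹 x) Φ π₁ π₂) :
    IsCyl x (Φ.restrictScalars 𝔸) (π₁.restrictScalars 𝔸) (π₂.restrictScalars 𝔸) := by
  constructor
  · exact h.surj
  · intro m n
    have := h.ker m n
    simp only [algebraMap_smul] at this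
    exact this

end restrict

section baseChange

variable {𝔸 : Type*} [CommRing 𝔸] (𝔸' : Type*) [CommRing 𝔸'] [Algebra 𝔸 𝔸']
  {𝕄 ℕ' 𝕋 : Type*} [AddCommGroup 𝕄] [AddCommGroup ℕ'] [AddCommGroup 𝕋]
  [Module 𝔸 𝕄] [Module 𝔸 ℕ'] [Module 𝔸 𝕋]
  {x : 𝔸} {Φ : 𝕄 →ₗ[𝔸] ℕ'} {π₁ : 𝕄 →ₗ[𝔸] 𝕋} {π₂ : ℕ' →ₗ[𝔸] 𝕋}

/-- cylinders commute with base change -/
theorem IsCyl.baseChange (h : IsCyl x Φ π₁ π₂) :
    IsCyl (algebraMap 𝔸 𝔸' x) (Φ.baseChange 𝔸') (π₁.baseChange 𝔸') (π₂.baseChange 𝔸') := by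
  obtain ⟨hex, hs⟩ := h.exact
  have hex' := lTensor_exact 𝔸' hex hs
  have hs' := LinearMap.lTensor_surjective 𝔸' hs
  let P := TensorProduct.prodRight 𝔸 𝔸' 𝔸' 𝕄 ℕ'
  have h1 : ∀ z : 𝔸' ⊗[𝔸] (𝕄 × ℕ'), (π₁.coprod π₂).lTensor 𝔸' z =
      π₁.baseChange 𝔸' (P z).1 + π₂.baseChange 𝔸' (P z).2 := by
    intro z
    induction z using TensorProduct.induction_on with
    | zero => rw [map_zero, map_zero, Prod.fst_zero, Prod.snd_zero, map_zero, map_zero, add_zero]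
    | tmul a mn =>
      rw [LinearMap.lTensor_tmul, LinearMap.coprod_apply, TensorProduct.prodRight_tmul,
        LinearMap.baseChange_tmul, LinearMap.baseChange_tmul, TensorProduct.tmul_add]
    | add z₁ z₂ h₁ h₂ =>
      rw [map_add, h₁, h₂, map_add, Prod.fst_add, Prod.snd_add, map_add, map_add]
      abel
  have h2 : ∀ y : 𝔸' ⊗[𝔸] 𝕄, P ((cylMap x Φ).lTensor 𝔸' y) =
      (algebraMap 𝔸 𝔸' x • y, - Φ.baseChange 𝔸' y) := by
    intro y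
    induction y using TensorProduct.induction_on with
    | zero => rw [map_zero, map_zero, smul_zero, map_zero, neg_zero]; rfl
    | tmul a m =>
      rw [LinearMap.lTensor_tmul, cylMap_apply, TensorProduct.prodRight_tmul,
        LinearMap.baseChange_tmul, TensorProduct.tmul_neg, TensorProduct.tmul_smul,
        algebraMap_smul]
    | add y₁ y₂ h₁ h₂ =>
      rw [map_add, map_add, h₁, h₂, smul_add, map_add, neg_add, Prod.mk_add_mk]
  constructor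
  · intro t
    obtain ⟨z, rfl⟩ := hs' t
    exact ⟨(P z).1, (P z).2, (h1 z).symm⟩
  · intro m n
    have hz := h1 (P.symm (m, n))
    rw [LinearEquiv.apply_symm_apply] at hz
    rw [← hz, hex' (P.symm (m, n))]
    constructor
    · rintro ⟨y, hy⟩
      have := congrArg P hy
      rw [h2, LinearEquiv.apply_symm_apply, Prod.mk.injEq] at this
      exact ⟨y, this.1.symm, this.2.symm⟩
    · rintro ⟨y, rfl, rfl⟩
      refine ⟨y, ?_⟩
      apply P.injective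
      rw [h2, LinearEquiv.apply_symm_apply]

end baseChange


section field

variable {R : Type*} [CommRing R] {κ : Type*} [Field κ] [Algebra R κ]
  {M N : Type*} [AddCommGroup M] [Module R M] [AddCommGroup N] [Module R N] (φ : M →ₗ[R] N)
  {𝕋 : Type*} [AddCommGroup 𝕋] [Module κ[X] 𝕋]
  {π₁ : κ[X] ⊗[R] M →ₗ[κ[X]] 𝕋} {π₂ : κ[X] ⊗[R] N →ₗ[κ[X]] 𝕋}

/-- the map `κ ⊗ M → κ[X] ⊗ M` induced by the constants -/
noncomputable def constMap (κ : Type*) [Field κ] [Algebra R κ] (M : Type*) [AddCommGroup M]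
    [Module R M] : κ ⊗[R] M →ₗ[R] κ[X] ⊗[R] M :=
  ((Algebra.linearMap κ κ[X]).restrictScalars R).rTensor M

/-- the map `κ[X] ⊗ M → κ ⊗ M` induced by evaluation at `0` -/
noncomputable def evalMap (κ : Type*) [Field κ] [Algebra R κ] (M : Type*) [AddCommGroup M]
    [Module R M] : κ[X] ⊗[R] M →ₗ[R] κ ⊗[R] M :=
  (((Polynomial.aeval (0 : κ)) : κ[X] →ₐ[κ] κ).toLinearMap.restrictScalars R).rTensor M

theorem evalMap_constMap (v : κ ⊗[R] M) : evalMap κ M (constMap κ M v) = v := by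
  induction v using TensorProduct.induction_on with
  | zero => simp
  | tmul k m => simp [evalMap, constMap]
  | add v₁ v₂ h₁ h₂ => rw [map_add, map_add, h₁, h₂]

theorem evalMap_X_smul (z : κ[X] ⊗[R] M) : evalMap κ M ((X : κ[X]) • z) = 0 := by
  induction z using TensorProduct.induction_on with
  | zero => simp
  | tmul a m => simp [evalMap, TensorProduct.smul_tmul']
  | add z₁ z₂ h₁ h₂ => rw [smul_add, map_add, h₁, h₂, add_zero]

theorem baseChange_constMap (v : κ ⊗[R] M) :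
    φ.baseChange κ[X] (constMap κ M v) = constMap κ N (φ.baseChange κ v) := by
  induction v using TensorProduct.induction_on with
  | zero => simp
  | tmul k m => simp [constMap]
  | add v₁ v₂ h₁ h₂ => rw [map_add, map_add, h₁, h₂, map_add, map_add]

instance flat_polynomial_tensor : Module.Flat κ[X] (κ[X] ⊗[R] M) :=
  Module.Flat.of_linearEquiv
    (TensorProduct.AlgebraTensorModule.cancelBaseChange R κ κ[X] κ[X] M).symm

/-- **the cylinder over `κ[X]` is flat iff the map of fibres is injective** -/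
theorem flat_iff_injective_of_isCyl
    (h : IsCyl (X : κ[X]) (φ.baseChange κ[X]) π₁ π₂) :
    Module.Flat κ[X] 𝕋 ↔ Function.Injective (φ.baseChange κ) := by
  constructor
  · intro hflat
    rw [injective_iff_map_eq_zero]
    intro v hv
    set y := constMap κ M v with hy
    have hΦy : φ.baseChange κ[X] y = 0 := by
      rw [hy, baseChange_constMap, hv, map_zero]
    have h1 : π₁ ((X : κ[X]) • y) + π₂ 0 = 0 :=
      (h.ker _ _).2 ⟨y, rfl, by rw [hΦy, neg_zero]⟩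
    rw [map_zero, add_zero, map_smul] at h1
    have hreg : IsSMulRegular 𝕋 (X : κ[X]) :=
      Module.Flat.isSMulRegular_of_nonZeroDivisors
        (mem_nonZeroDivisors_of_ne_zero Polynomial.X_ne_zero)
    have h2 : π₁ y = 0 := hreg (by change (X : κ[X]) • π₁ y = (X : κ[X]) • 0; rw [h1, smul_zero])
    have h3 : π₁ y + π₂ 0 = 0 := by rw [h2, map_zero, add_zero]
    obtain ⟨y', hy', -⟩ := (h.ker _ _).1 h3
    have := evalMap_constMap (κ := κ) (M := M) v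
    rw [← hy, hy', evalMap_X_smul] at this
    exact this.symm
  · intro hinj
    obtain ⟨r, hr⟩ := LinearMap.exists_leftInverse_of_injective (φ.baseChange κ)
      (LinearMap.ker_eq_bot.2 hinj)
    let eM := TensorProduct.AlgebraTensorModule.cancelBaseChange R κ κ[X] κ[X] M
    let eN := TensorProduct.AlgebraTensorModule.cancelBaseChange R κ κ[X] κ[X] N
    let ρ : κ[X] ⊗[R] N →ₗ[κ[X]] κ[X] ⊗[R] M :=
      eM.toLinearMap ∘ₗ r.baseChange κ[X] ∘ₗ eN.symm.toLinearMap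
    have hρ : ∀ y, ρ (φ.baseChange κ[X] y) = y := by
      intro y
      induction y using TensorProduct.induction_on with
      | zero => simp
      | tmul a m =>
        have h1 : r ((1 : κ) ⊗ₜ[R] φ m) = (1 : κ) ⊗ₜ[R] m := by
          have := LinearMap.congr_fun hr ((1 : κ) ⊗ₜ[R] m)
          rwa [LinearMap.comp_apply, LinearMap.baseChange_tmul, LinearMap.id_apply] at this
        simp only [ρ, eM, eN, LinearMap.comp_apply, LinearEquiv.coe_coe,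
          LinearMap.baseChange_tmul,
          TensorProduct.AlgebraTensorModule.cancelBaseChange_symm_tmul, h1,
          TensorProduct.AlgebraTensorModule.cancelBaseChange_tmul, one_smul]
      | add y₁ y₂ h₁ h₂ => rw [map_add, map_add, h₁, h₂]
    rw [Module.Flat.flat_iff_torsion_eq_bot_of_isBezout, Submodule.eq_bot_iff]
    intro t ht
    obtain ⟨a, hat⟩ := (Submodule.mem_torsion_iff t).1 ht
    obtain ⟨m, n, rfl⟩ := h.surj t
    have hregM : ∀ m₁ m₂ : κ[X] ⊗[R] M, (a : κ[X]) • m₁ = (a : κ[X]) • m₂ → m₁ = m₂ :=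
      fun m₁ m₂ h12 => (Module.Flat.isSMulRegular_of_nonZeroDivisors
        (M := κ[X] ⊗[R] M) a.2) h12
    have hregN : ∀ m₁ m₂ : κ[X] ⊗[R] N, (a : κ[X]) • m₁ = (a : κ[X]) • m₂ → m₁ = m₂ :=
      fun m₁ m₂ h12 => (Module.Flat.isSMulRegular_of_nonZeroDivisors
        (M := κ[X] ⊗[R] N) a.2) h12
    have h1 : π₁ ((a : κ[X]) • m) + π₂ ((a : κ[X]) • n) = 0 := by
      rw [map_smul, map_smul, ← smul_add]
      exact hat
    obtain ⟨y, hy1, hy2⟩ := (h.ker _ _).1 h1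
    set y' := - ρ n with hy'
    have hyy' : y = (a : κ[X]) • y' := by
      have := congrArg ρ hy2
      rw [map_neg, hρ, map_smul] at this
      rw [hy', smul_neg, this, neg_neg]
    refine (h.ker _ _).2 ⟨y', ?_, ?_⟩
    · apply hregM
      rw [hy1, hyy', smul_comm]
    · apply hregN
      rw [hy2, hyy', map_smul, smul_neg]

end field

end Groth.Agent.H70.FibExact
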