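import Groth.Agent.H70.FibExact.Inj

/-!
# The locus of primes over which a complex of finitely presented modules is exact on the fibre
(helper70)

`Exact (κ ⊗ u) (κ ⊗ v)` is expressed through injectivity of two base-changed maps, using only
right exactness of the tensor product.
-/

set_option autoImplicit false
set_option linter.style.haveILetI false

open TensorProduct Topology

namespace Groth.Agent.H70.FibExact

universe u

section abstract

variable {F' G' H' C' H'' : Type*} [AddCommGroup F'] [AddCommGroup G'] [AddCommGroup H']
  [AddCommGroup C'] [AddCommGroup H'']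

theorem exact_iff_injective_and_injective (a : F' →+ G') (b : G' →+ H') (q : G' →+ C')
    (π : H' →+ H'') (c : C' →+ H'')
    (haq : Function.Exact a q) (hq : Function.Surjective q)
    (hbaπ : Function.Exact (b.comp a) π) (hc : ∀ g, c (q g) = π (b g)) :
    Function.Exact a b ↔ Function.Injective π ∧ Function.Injective c := by
  constructor
  · intro hab
    have hπ : Function.Injective π := by
      rw [injective_iff_map_eq_zero]
      intro h hh
      obtain ⟨f, rfl⟩ := (hbaπ h).1 hh
      exact (hab (a f)).2 ⟨f, rfl⟩
    refine ⟨hπ, ?_⟩
    rw [injective_iff_map_eq_zero]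
    intro z hz
    obtain ⟨g, rfl⟩ := hq z
    rw [hc] at hz
    have hbg : b g = 0 := hπ (hz.trans (map_zero π).symm)
    obtain ⟨f, rfl⟩ := (hab g).1 hbg
    exact (haq (a f)).2 ⟨f, rfl⟩
  · rintro ⟨hπ, hcinj⟩ g
    constructor
    · intro hbg
      have h1 : c (q g) = 0 := by rw [hc, hbg, map_zero]
      have h2 : q g = 0 := hcinj (h1.trans (map_zero c).symm)
      exact (haq g).1 h2
    · rintro ⟨f, rfl⟩
      have h1 : π (b (a f)) = 0 := (hbaπ (b (a f))).2 ⟨f, rfl⟩
      exact hπ (h1.trans (map_zero π).symm)

end abstract

noncomputable section

section concrete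

variable {R B : Type u} [CommRing R] [CommRing B] [Algebra R B]
  {F G H : Type u} [AddCommGroup F] [Module B F] [Module R F] [IsScalarTower R B F]
  [AddCommGroup G] [Module B G] [Module R G] [IsScalarTower R B G]
  [AddCommGroup H] [Module B H] [Module R H] [IsScalarTower R B H]
  (u : F →ₗ[B] G) (v : G →ₗ[B] H)

/-- the quotient map `H → H ⧸ im (v ∘ u)` -/
abbrev piMap : H →ₗ[B] H ⧸ LinearMap.range (v ∘ₗ u) := (LinearMap.range (v ∘ₗ u)).mkQ

/-- the map `G ⧸ im u → H ⧸ im (v ∘ u)` induced by `v` -/
def vbar : (G ⧸ LinearMap.range u) →ₗ[B] H ⧸ LinearMap.range (v ∘ₗ u) :=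
  (LinearMap.range u).liftQ (piMap u v ∘ₗ v) (by
    rintro _ ⟨f, rfl⟩
    rw [LinearMap.mem_ker, LinearMap.comp_apply, Submodule.mkQ_apply,
      Submodule.Quotient.mk_eq_zero]
    exact ⟨f, rfl⟩)

theorem vbar_mkQ (g : G) : vbar u v ((LinearMap.range u).mkQ g) = piMap u v (v g) := rfl

variable (κ : Type u) [CommRing κ] [Algebra R κ]

theorem exact_baseChange_iff :
    Function.Exact ((u.restrictScalars R).baseChange κ) ((v.restrictScalars R).baseChange κ) ↔
      Function.Injective (((piMap u v).restrictScalars R).baseChange κ) ∧
      Function.Injective (((vbar u v).restrictScalars R).baseChange κ) := by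
  have hex1 : Function.Exact (u.restrictScalars R) ((LinearMap.range u).mkQ.restrictScalars R) :=
    LinearMap.exact_map_mkQ_range u
  have hs1 : Function.Surjective ((LinearMap.range u).mkQ.restrictScalars R) :=
    Submodule.mkQ_surjective _
  have hex2 : Function.Exact ((v ∘ₗ u).restrictScalars R) ((piMap u v).restrictScalars R) :=
    LinearMap.exact_map_mkQ_range (v ∘ₗ u)
  have hs2 : Function.Surjective ((piMap u v).restrictScalars R) :=
    Submodule.mkQ_surjective _
  have e1 := lTensor_exact κ hex1 hs1
  have s1 := LinearMap.lTensor_surjective κ hs1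
  have e2 := lTensor_exact κ hex2 hs2
  refine exact_iff_injective_and_injective
    ((u.restrictScalars R).baseChange κ).toAddMonoidHom
    ((v.restrictScalars R).baseChange κ).toAddMonoidHom
    (((LinearMap.range u).mkQ.restrictScalars R).baseChange κ).toAddMonoidHom
    (((piMap u v).restrictScalars R).baseChange κ).toAddMonoidHom
    (((vbar u v).restrictScalars R).baseChange κ).toAddMonoidHom
    e1 s1 ?_ ?_
  · intro z
    have hfun : ∀ y, ((v.restrictScalars R).baseChange κ) (((u.restrictScalars R).baseChange κ) y) =
        ((v ∘ₗ u).restrictScalars R).lTensor κ y := by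
      intro y
      induction y using TensorProduct.induction_on with
      | zero => simp
      | tmul a f => rfl
      | add y z hy hz => simp only [map_add, hy, hz]
    refine (e2 z).trans ?_
    constructor
    · rintro ⟨y, rfl⟩
      exact ⟨y, hfun y⟩
    · rintro ⟨y, rfl⟩
      exact ⟨y, (hfun y).symm⟩
  · intro z
    change ((vbar u v).restrictScalars R).baseChange κ
      ((((LinearMap.range u).mkQ.restrictScalars R).baseChange κ) z) =
      ((piMap u v).restrictScalars R).baseChange κ (((v.restrictScalars R).baseChange κ) z)
    induction z using TensorProduct.induction_on with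
    | zero => simp
    | tmul a g => rfl
    | add y z hy hz => simp only [map_add, hy, hz]

omit [Module R F] [IsScalarTower R B F] [Module R G] [IsScalarTower R B G] in
theorem finitePresentation_quot_range [Module.Finite B F] [Module.FinitePresentation B G] :
    Module.FinitePresentation B (G ⧸ LinearMap.range u) :=
  Module.finitePresentation_of_surjective (LinearMap.range u).mkQ (Submodule.mkQ_surjective _)
    (by
      rw [Submodule.ker_mkQ, LinearMap.range_eq_map]
      exact Module.Finite.fg_top.map _)

theorem isConstructible_setOf_exact [Algebra.FinitePresentation R B]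
    [Module.FinitePresentation B F] [Module.FinitePresentation B G]
    [Module.FinitePresentation B H] :
    IsConstructible {p : PrimeSpectrum R |
      Function.Exact ((u.restrictScalars R).baseChange p.asIdeal.ResidueField)
        ((v.restrictScalars R).baseChange p.asIdeal.ResidueField)} := by
  haveI : Module.FinitePresentation B (G ⧸ LinearMap.range u) :=
    finitePresentation_quot_range u
  haveI : Module.FinitePresentation B (H ⧸ LinearMap.range (v ∘ₗ u)) :=
    finitePresentation_quot_range (v ∘ₗ u)
  have h1 := isConstructible_setOf_injective (R := R) (piMap u v)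
  have h2 := isConstructible_setOf_injective (R := R) (vbar u v)
  have heq : {p : PrimeSpectrum R |
      Function.Exact ((u.restrictScalars R).baseChange p.asIdeal.ResidueField)
        ((v.restrictScalars R).baseChange p.asIdeal.ResidueField)} =
      {p : PrimeSpectrum R | Function.Injective
        (((piMap u v).restrictScalars R).baseChange p.asIdeal.ResidueField)} ∩
      {p : PrimeSpectrum R | Function.Injective
        (((vbar u v).restrictScalars R).baseChange p.asIdeal.ResidueField)} := by
    ext p
    exact exact_baseChange_iff u v p.asIdeal.ResidueField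
  rw [heq]
  exact h1.inter h2

end concrete

end

end Groth.Agent.H70.FibExact
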