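import Groth.Agent.H70.FibFlat.LocFree
import Groth.Agent.H44.PullbackTilde
import Groth.Agent.H71.QCoh.FlatOverAffine
import Groth.Agent.S9827

/-!
# Fibrewise flatness, ring level (helper70)

For rings `R → A → C` with `A`, `C` finitely presented over `R` and a finitely presented
`C`-module `T`, the set of primes `p` of `R` such that the fibre `κ(p) ⊗ T` is flat over
`κ(p) ⊗ A` is constructible.  The fibres may be computed on any pushouts.
-/

set_option autoImplicit false
set_option linter.style.haveILetI false

open CategoryTheory Limits AlgebraicGeometry TopologicalSpace Opposite Topology TensorProduct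

namespace Groth.Agent.H70.FibExact

universe u

open Groth.Agent.H70.FibFlat

section

variable (R A C : Type u) [CommRing R] [CommRing A] [CommRing C]
  [Algebra R A] [Algebra R C] [Algebra A C] [IsScalarTower R A C]
  (T : Type u) [AddCommGroup T] [Module C T]

/-- the morphism `Spec C ⟶ Spec A` -/
noncomputable abbrev fAC : Spec (CommRingCat.of C) ⟶ Spec (CommRingCat.of A) :=
  Spec.map (CommRingCat.ofHom (algebraMap A C))

/-- the morphism `Spec A ⟶ Spec R` -/
noncomputable abbrev hRA : Spec (CommRingCat.of A) ⟶ Spec (CommRingCat.of R) :=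
  Spec.map (CommRingCat.ofHom (algebraMap R A))

theorem fAC_hRA : fAC A C ≫ hRA R A = Spec.map (CommRingCat.ofHom (algebraMap R C)) := by
  rw [← Spec.map_comp, ← CommRingCat.ofHom_comp, ← IsScalarTower.algebraMap_eq]

/-- the set of primes of `R` over which `T` is fibrewise flat over `A` at all points -/
def fibFlatSet : Set (Spec (CommRingCat.of R)) :=
  {p | ∀ x : Spec (CommRingCat.of C), (fAC A C ≫ hRA R A) x = p →
    FibFlat (fAC A C) (hRA R A) (tilde (ModuleCat.of C T)) x}

end


section constructible

variable (R A C : Type u) [CommRing R] [CommRing A] [CommRing C]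
  [Algebra R A] [Algebra R C] [Algebra A C] [IsScalarTower R A C]
  (T : Type u) [AddCommGroup T] [Module C T]

theorem locallyOfFinitePresentation_hRA [Algebra.FinitePresentation R A] :
    LocallyOfFinitePresentation (hRA R A) := by
  rw [HasRingHomProperty.Spec_iff (P := @LocallyOfFinitePresentation), CommRingCat.hom_ofHom,
    RingHom.finitePresentation_algebraMap]
  infer_instance

theorem isConstructible_fibFlatSet [Algebra.FinitePresentation R A]
    [Algebra.FinitePresentation R C] [Module.FinitePresentation C T] :
    IsConstructible (fibFlatSet R A C T) := by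
  haveI := locallyOfFinitePresentation_hRA R A
  haveI : LocallyOfFinitePresentation (fAC A C ≫ hRA R A) := by
    rw [fAC_hRA]
    exact locallyOfFinitePresentation_hRA R C
  haveI : SheafOfModules.IsFinitePresentation
      (R := (Spec (CommRingCat.of C)).ringCatSheaf) (tilde (ModuleCat.of C T)) :=
    (Groth.Agent.S9827.result (CommRingCat.of C) (ModuleCat.of C T)).mpr inferInstance
  have hloc := FibFlat.isLocallyConstructible (fAC A C) (hRA R A) (tilde (ModuleCat.of C T))
  have heq : fibFlatSet R A C T = ((fAC A C ≫ hRA R A) ''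
      {x | FibFlat (fAC A C) (hRA R A) (tilde (ModuleCat.of C T)) x}ᶜ)ᶜ := by
    ext p
    rw [fibFlatSet, Set.mem_ofPred_eq, Set.mem_compl_iff, Set.mem_image]
    constructor
    · rintro hsub ⟨x, hx, hxp⟩
      exact hx (hsub x hxp)
    · intro h x hx
      by_contra hc
      exact h ⟨x, hc, hx⟩
  rw [heq]
  have h2 := isLocallyConstructible_compl ((fAC A C ≫ hRA R A).isLocallyConstructible_image
    (isLocallyConstructible_compl hloc))
  exact h2.isConstructible

end constructible


section pointwise

variable (R A C : Type u) [CommRing R] [CommRing A] [CommRing C]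
  [Algebra R A] [Algebra R C] [Algebra A C] [IsScalarTower R A C]
  (T : Type u) [AddCommGroup T] [Module C T]
  (p : PrimeSpectrum R)
  (A' C' : Type u) [CommRing A'] [CommRing C']
  [Algebra p.asIdeal.ResidueField A'] [Algebra A A'] [Algebra R A'] [IsScalarTower R A A']
  [IsScalarTower R p.asIdeal.ResidueField A'] [Algebra.IsPushout R p.asIdeal.ResidueField A A']
  [Algebra A' C'] [Algebra C C'] [Algebra A C'] [IsScalarTower A C C'] [IsScalarTower A A' C']
  [Algebra.IsPushout A A' C C']

set_option maxHeartbeats 1600000 in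
/-- membership in `fibFlatSet` can be tested on any pushouts computing the fibres -/
theorem mem_fibFlatSet_iff :
    (show Spec (CommRingCat.of R) from p) ∈ fibFlatSet R A C T ↔
      Module.Flat A' (C' ⊗[C] T) := by
  let κ := p.asIdeal.ResidueField
  let S : Scheme.{u} := Spec (CommRingCat.of R)
  let s : S := p
  let f := fAC A C
  let h := hRA R A
  let F : (Spec (CommRingCat.of C)).Modules := tilde (ModuleCat.of C T)
  let ρ : Spec (CommRingCat.of κ) ⟶ Spec (S.residueField s) :=
    Spec.map (Scheme.Spec.residueFieldIso (CommRingCat.of R) s).hom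
  let t : Spec (CommRingCat.of κ) ⟶ S := Spec.map (CommRingCat.ofHom (algebraMap R κ))
  have ht : t = ρ ≫ S.fromSpecResidueField s := by
    have h1 := Scheme.Spec.map_residueFieldIso_inv_eq_fromSpecResidueField (CommRingCat.of R) s
    change t = ρ ≫ (Spec (CommRingCat.of R)).fromSpecResidueField s
    rw [← h1, ← Category.assoc, ← Spec.map_comp, Iso.inv_hom_id, Spec.map_id, Category.id_comp]
  have hts : ∀ y, t y = s := by
    intro y
    rw [ht, Scheme.Hom.comp_apply, Scheme.fromSpecResidueField_apply]
  let ιY : Spec (CommRingCat.of A') ⟶ Spec (CommRingCat.of A) :=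
    Spec.map (CommRingCat.ofHom (algebraMap A A'))
  let pY : Spec (CommRingCat.of A') ⟶ Spec (CommRingCat.of κ) :=
    Spec.map (CommRingCat.ofHom (algebraMap κ A'))
  let ιX : Spec (CommRingCat.of C') ⟶ Spec (CommRingCat.of C) :=
    Spec.map (CommRingCat.ofHom (algebraMap C C'))
  let fs : Spec (CommRingCat.of C') ⟶ Spec (CommRingCat.of A') :=
    Spec.map (CommRingCat.ofHom (algebraMap A' C'))
  have hY : IsPullback ιY pY h t :=
    (isPullback_SpecMap_of_isPushout _ _ _ _
      (CommRingCat.isPushout_of_isPushout R κ A A')).flip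
  have hX : IsPullback ιX fs f ιY :=
    (isPullback_SpecMap_of_isPushout _ _ _ _
      (CommRingCat.isPushout_of_isPushout A A' C C')).flip
  have hXS : IsPullback ιX (fs ≫ pY) (f ≫ h) t := hX.paste_vert hY
  -- pointwise comparison
  have key : ∀ x' : Spec (CommRingCat.of C'),
      FibFlat f h F (ιX x') ↔
        FlatMod.IsFlatOverAt fs ((Scheme.Modules.pullback ιX).obj F) x' := by
    intro x'
    have hmem : ιX x' ∈ (f ≫ h) ⁻¹' {s} := by
      change (f ≫ h) (ιX x') = s
      rw [← Scheme.Hom.comp_apply, hXS.w, Scheme.Hom.comp_apply]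
      exact hts _
    rw [← (f ≫ h).range_fiberι s] at hmem
    obtain ⟨x₀, hx₀⟩ := hmem
    rw [fibFlat_iff f h F _ s x₀ hx₀]
    exact (model_iff f h F s ιX ιY fs pY t ρ ht hY hX x' x₀ hx₀).symm
  have iso := Groth.Agent.H44.pullbackTildeIsoTensor C C' T
  have hflat : FlatMod.IsFlatOver fs ((Scheme.Modules.pullback ιX).obj F) ↔
      Module.Flat A' (C' ⊗[C] T) := by
    rw [← Groth.Agent.H71.QCoh.isFlatOver_tilde_iff A' C' (C' ⊗[C] T)]
    constructor
    · intro H x'
      exact (Groth.Agent.H70.RelFlatBC.isFlatOverAt_iff_of_iso fs iso x').1 (H x')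
    · intro H x'
      exact (Groth.Agent.H70.RelFlatBC.isFlatOverAt_iff_of_iso fs iso x').2 (H x')
  rw [← hflat]
  constructor
  · intro H x'
    rw [← key x']
    apply H
    change (f ≫ h) (ιX x') = s
    rw [← Scheme.Hom.comp_apply, hXS.w, Scheme.Hom.comp_apply]
    exact hts _
  · intro H x hx
    obtain ⟨y⟩ : Nonempty (Spec (CommRingCat.of κ)) := inferInstance
    obtain ⟨x', hx', -⟩ := exists_preimage_of_isPullback hXS x y (hx.trans (hts y).symm)
    rw [← hx', key x']
    exact H x'

end pointwise

end Groth.Agent.H70.FibExact
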