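import Groth.Agent.H70.FibExact.Cyl
import Groth.Agent.H70.FibExact.RingLevel

/-!
# The locus of primes over which a map of finitely presented modules is injective on the fibre
(helper70)
-/

set_option autoImplicit false
set_option linter.style.haveILetI false

open TensorProduct Polynomial Topology

namespace Groth.Agent.H70.FibExact

universe u

attribute [local instance] Algebra.TensorProduct.rightAlgebra Polynomial.algebra

noncomputable section

theorem finitePresentation_cyl {𝔸 : Type*} [CommRing 𝔸] {𝕄 ℕ' : Type*} [AddCommGroup 𝕄]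
    [AddCommGroup ℕ'] [Module 𝔸 𝕄] [Module 𝔸 ℕ'] [Module.FinitePresentation 𝔸 𝕄]
    [Module.FinitePresentation 𝔸 ℕ'] (x : 𝔸) (Φ : 𝕄 →ₗ[𝔸] ℕ') :
    Module.FinitePresentation 𝔸 (Cyl x Φ) := by
  refine Module.finitePresentation_of_surjective (LinearMap.range (cylMap x Φ)).mkQ
    (Submodule.mkQ_surjective _) ?_
  rw [Submodule.ker_mkQ, LinearMap.range_eq_map]
  exact (Module.Finite.fg_top).map _

section algebras

variable (R B : Type u) [CommRing R] [CommRing B] [Algebra R B]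
variable (κ : Type u) [Field κ] [Algebra R κ]

/-- the algebra `κ[X] ⊗ B` over `R[X] ⊗ B` -/
@[reducible] def algCC' : Algebra (R[X] ⊗[R] B) (κ[X] ⊗[R] B) :=
  (Algebra.TensorProduct.map (Algebra.ofId R[X] κ[X])
    (AlgHom.id R B)).toRingHom.toAlgebra

attribute [local instance] algCC'

theorem algebraMap_CC'_tmul (a : R[X]) (b : B) :
    algebraMap (R[X] ⊗[R] B) (κ[X] ⊗[R] B) (a ⊗ₜ[R] b) = algebraMap R[X] κ[X] a ⊗ₜ[R] b := by
  change (Algebra.TensorProduct.map (Algebra.ofId R[X] κ[X]) (AlgHom.id R B)) (a ⊗ₜ[R] b) = _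
  rw [Algebra.TensorProduct.map_tmul]
  rfl

theorem smul_C'_eq (a : R[X]) (m : κ[X] ⊗[R] B) :
    a • m = (algebraMap R[X] κ[X] a ⊗ₜ[R] (1 : B)) * m := by
  have h := Algebra.smul_def a m
  rw [Algebra.TensorProduct.algebraMap_apply] at h
  exact h

instance towerACC' : IsScalarTower R[X] (R[X] ⊗[R] B) (κ[X] ⊗[R] B) :=
  ⟨fun a c m => by
    rw [Algebra.smul_def c m, Algebra.smul_def (a • c) m, Algebra.smul_def a c, map_mul,
      Algebra.TensorProduct.algebraMap_apply, algebraMap_CC'_tmul, mul_assoc, smul_C'_eq]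
    rfl⟩

instance pushoutCC' : Algebra.IsPushout R[X] κ[X] (R[X] ⊗[R] B) (κ[X] ⊗[R] B) :=
  Algebra.IsPushout.tensorProduct_tensorProduct R B R[X] κ[X] (by
    ext b
    change algebraMap (R[X] ⊗[R] B) (κ[X] ⊗[R] B) ((1 : R[X]) ⊗ₜ[R] b) = (1 : κ[X]) ⊗ₜ[R] b
    rw [algebraMap_CC'_tmul, map_one])

example : IsScalarTower R R[X] κ[X] := inferInstance
example : IsScalarTower R κ κ[X] := inferInstance
example : Algebra.IsPushout R κ R[X] κ[X] := inferInstance
example : IsScalarTower R[X] κ[X] (κ[X] ⊗[R] B) := inferInstance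

end algebras

section main

variable {R B : Type u} [CommRing R] [CommRing B] [Algebra R B]
variable (κ : Type u) [Field κ] [Algebra R κ]
variable {M N : Type u} [AddCommGroup M] [Module B M] [Module R M] [IsScalarTower R B M]
  [AddCommGroup N] [Module B N] [Module R N] [IsScalarTower R B N]
variable (φ : M →ₗ[B] N)

attribute [local instance] algCC'

instance towerBCC' : IsScalarTower B (R[X] ⊗[R] B) (κ[X] ⊗[R] B) :=
  ⟨fun b c m => by
    rw [Algebra.smul_def c m, Algebra.smul_def (b • c) m, Algebra.smul_def b c, map_mul,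
      mul_assoc, Algebra.smul_def b]
    congr 1
    change algebraMap (R[X] ⊗[R] B) (κ[X] ⊗[R] B) ((1 : R[X]) ⊗ₜ[R] b) = (1 : κ[X]) ⊗ₜ[R] b
    rw [algebraMap_CC'_tmul, map_one]⟩

/-- the comparison isomorphism `κ[X] ⊗[R] M ≃ (κ[X] ⊗ B) ⊗[R[X] ⊗ B] ((R[X] ⊗ B) ⊗[B] M)` -/
def compEquiv (M : Type u) [AddCommGroup M] [Module B M] [Module R M] [IsScalarTower R B M] :
    κ[X] ⊗[R] M ≃ₗ[κ[X]] (κ[X] ⊗[R] B) ⊗[R[X] ⊗[R] B] ((R[X] ⊗[R] B) ⊗[B] M) :=
  (Algebra.IsPushout.cancelBaseChange R κ[X] B (κ[X] ⊗[R] B) M).symm ≪≫ₗ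
    ((TensorProduct.AlgebraTensorModule.cancelBaseChange B (R[X] ⊗[R] B) (κ[X] ⊗[R] B)
      (κ[X] ⊗[R] B) M).symm.restrictScalars κ[X])

theorem compEquiv_tmul (s : κ[X]) (m : M) :
    compEquiv (R := R) (B := B) κ M (s ⊗ₜ[R] m) =
      (s ⊗ₜ[R] (1 : B)) ⊗ₜ[R[X] ⊗[R] B] ((1 : R[X] ⊗[R] B) ⊗ₜ[B] m) := by
  simp [compEquiv]

/-- the element `X ⊗ 1` of `R[X] ⊗ B` -/
abbrev xC (R B : Type u) [CommRing R] [CommRing B] [Algebra R B] : R[X] ⊗[R] B :=
  (X : R[X]) ⊗ₜ[R] (1 : B)

/-- the cylinder module over `R[X] ⊗ B` -/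
abbrev CylMod (R : Type u) {B : Type u} [CommRing R] [CommRing B] [Algebra R B]
    {M N : Type u} [AddCommGroup M] [Module B M] [AddCommGroup N] [Module B N]
    (φ : M →ₗ[B] N) : Type u :=
  Cyl (𝔸 := R[X] ⊗[R] B) (𝕄 := (R[X] ⊗[R] B) ⊗[B] M) (ℕ' := (R[X] ⊗[R] B) ⊗[B] N)
    (xC R B) (φ.baseChange (R[X] ⊗[R] B))

theorem flat_fibre_cyl_iff :
    Module.Flat κ[X] ((κ[X] ⊗[R] B) ⊗[R[X] ⊗[R] B] CylMod R φ) ↔
      Function.Injective ((φ.restrictScalars R).baseChange κ) := by
  have h0 := isCyl_mk (𝔸 := R[X] ⊗[R] B) (𝕄 := (R[X] ⊗[R] B) ⊗[B] M)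
    (ℕ' := (R[X] ⊗[R] B) ⊗[B] N) (xC R B) (φ.baseChange (R[X] ⊗[R] B))
  have h1 := h0.baseChange (κ[X] ⊗[R] B)
  have hx : algebraMap (R[X] ⊗[R] B) (κ[X] ⊗[R] B) (xC R B) =
      algebraMap κ[X] (κ[X] ⊗[R] B) X := by
    rw [algebraMap_CC'_tmul, Algebra.TensorProduct.algebraMap_apply]
    simp
  rw [hx] at h1
  have h2 := h1.restrictScalars (𝔸 := κ[X])
  have h3 := h2.congr (compEquiv (R := R) (B := B) κ M) (compEquiv (R := R) (B := B) κ N)
    ((φ.restrictScalars R).baseChange κ[X]) (by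
      intro y
      induction y using TensorProduct.induction_on with
      | zero => simp
      | tmul s m =>
        rw [LinearMap.baseChange_tmul, compEquiv_tmul, compEquiv_tmul]
        simp
      | add y z hy hz => simp only [map_add, hy, hz])
  exact flat_iff_injective_of_isCyl (φ.restrictScalars R) h3

variable (R) in
theorem finitePresentation_RXB [Algebra.FinitePresentation R B] :
    Algebra.FinitePresentation R (R[X] ⊗[R] B) :=
  Algebra.FinitePresentation.trans R R[X] (R[X] ⊗[R] B)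

theorem finitePresentation_cylMod [Module.FinitePresentation B M]
    [Module.FinitePresentation B N] :
    Module.FinitePresentation (R[X] ⊗[R] B) (CylMod R φ) := by
  have h := finitePresentation_cyl (𝔸 := R[X] ⊗[R] B) (𝕄 := (R[X] ⊗[R] B) ⊗[B] M)
      (ℕ' := (R[X] ⊗[R] B) ⊗[B] N) (xC R B) (φ.baseChange (R[X] ⊗[R] B))
  exact h

theorem isConstructible_setOf_injective [Algebra.FinitePresentation R B]
    [Module.FinitePresentation B M] [Module.FinitePresentation B N] :
    IsConstructible {p : PrimeSpectrum R |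
      Function.Injective ((φ.restrictScalars R).baseChange p.asIdeal.ResidueField)} := by
  haveI := finitePresentation_RXB R (B := B)
  haveI := finitePresentation_cylMod (R := R) φ
  have h := isConstructible_fibFlatSet R R[X] (R[X] ⊗[R] B) (CylMod R φ)
  have heq : {p : PrimeSpectrum R |
      Function.Injective ((φ.restrictScalars R).baseChange p.asIdeal.ResidueField)} =
      fibFlatSet R R[X] (R[X] ⊗[R] B) (CylMod R φ) := by
    ext p
    rw [Set.mem_ofPred_eq]
    have h1 := mem_fibFlatSet_iff R R[X] (R[X] ⊗[R] B) (CylMod R φ) p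
      (p.asIdeal.ResidueField)[X] ((p.asIdeal.ResidueField)[X] ⊗[R] B)
    have h2 := flat_fibre_cyl_iff (R := R) p.asIdeal.ResidueField φ
    exact (h1.trans h2).symm
  rw [heq]
  exact h

end main

end

end Groth.Agent.H70.FibExact
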